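import Groth.Agent.Fano.K188.LineDef
import Groth.Agent.Sga67.PushTwist

/-!
# Sections of `O(1)` on projective space over an arbitrary scheme

* `isLocBasis_crd`: the coordinates are a local basis of `f_* O(1)`, `f : P^r_T ⟶ T`.
* `exists_eq_lsec`, `lsec_inj`: sections of `O(1)` on the projective line over `T`.
-/

set_option autoImplicit false

universe u

open CategoryTheory CategoryTheory.Limits AlgebraicGeometry

namespace K980.SecP1

open K390.PnSec Groth.Agent.Fdesc.LocGen Groth.Agent.Dix.ProjProper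
open Groth.Agent.Ega2.H295.PnUniq Groth.Agent.Ega2.H295.PnCoord
open Groth.Agent.Sga67 Groth.Agent.Sga67.LocBasis Groth.Agent.Sga67.PnGlobal Groth.Agent.Sga67.PushTwist
open K188.LineDef

/-- The exponent of a variable. -/
def ex {r : ℕ} (i : Fin (r + 1)) : Exp r 1 := ⟨Pi.single i 1, by simp⟩

theorem ex_bijective (r : ℕ) : Function.Bijective (ex (r := r)) := by
  constructor
  · intro i j h
    have h1 := congrFun (congrArg Subtype.val h) i
    simp only [ex, Pi.single_eq_same] at h1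
    by_contra hne
    rw [Pi.single_eq_of_ne hne] at h1
    omega
  · rintro ⟨P, hP⟩
    have h1 : ∃ i, P i ≠ 0 := by
      by_contra h
      push Not at h
      simp [h] at hP
    obtain ⟨i, hi⟩ := h1
    refine ⟨i, Subtype.ext (funext fun j => ?_)⟩
    have h2 := Finset.add_sum_erase Finset.univ P (Finset.mem_univ i)
    have h3 : ∑ j ∈ Finset.univ.erase i, P j = 0 := by omega
    change (Pi.single i 1 : Fin (r + 1) → ℕ) j = P j
    by_cases hj : j = i
    · subst hj
      rw [Pi.single_eq_same]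
      omega
    · rw [Pi.single_eq_of_ne hj]
      exact ((Finset.sum_eq_zero_iff.mp h3) j (Finset.mem_erase.mpr ⟨hj, Finset.mem_univ j⟩)).symm

/-- The exponents of the variables. -/
noncomputable def exEquiv (r : ℕ) : Fin (r + 1) ≃ Exp r 1 := Equiv.ofBijective _ (ex_bijective r)

theorem mono_ex {r : ℕ} (R : Type u) [CommRing R] (i : Fin (r + 1)) :
    mono R (ex i) = ⟨MvPolynomial.X i, MvPolynomial.isHomogeneous_X R i⟩ := by
  refine Subtype.ext ?_
  change MvPolynomial.monomial (Finsupp.equivFunOnFinite.symm (Pi.single i 1)) 1 = MvPolynomial.X i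
  rw [MvPolynomial.X]
  congr 1
  ext j
  simp

variable {r : ℕ} (T : Scheme.{u})

theorem msec_ex (i : Fin (r + 1)) : msec (ULift.{u} ℤ) (ex i) = cd r Z.{u} i := by
  change Twist.globalOf (CohB1.polyGrading r (ULift.{u} ℤ)) (mono (ULift.{u} ℤ) (ex i)) = _
  rw [mono_ex]
  rfl

theorem gsec_ex (i : Fin (r + 1)) : gsec r T (ex i) = crd r T i := by
  have h := msec_ex (r := r) i
  unfold gsec crd tsec
  rw [h]
  rfl

theorem isLocBasis_bsec (n : ℕ) : IsLocBasis (bsec r T n) := by
  have h := (free_isLocBasis T ((n + r).choose r)).of_iso (pushTwistIso r T n)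
  have h1 : (fun i => Sec.appS (pushTwistIso r T n).hom ⊤ (freeBasis T ((n + r).choose r) i)) = bsec r T n := by
    funext i
    have hf : Sigma.ι (fun _ : Fin ((n + r).choose r) => Coh.structureModule T) i ≫ freeCmp r T n =
        LocBasis.homUnit _ (bsec r T n i) := by simp [freeCmp]
    change Sec.appS (freeCmp r T n) ⊤ (freeBasis T _ i) = _
    rw [freeBasis, ← Sec.appS_comp, hf, LocBasis.homUnit_one]
    simp
  rw [h1] at h
  exact h

/-- The coordinates as sections of the direct image. -/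
noncomputable def bcrd (i : Fin (r + 1)) :
    Sec.Sec ((Scheme.Modules.pushforward (CohB1.ProjSpaceOver.toBase r T)).obj
      (Twist.twistOver r T ((1 : ℕ) : ℤ))) ⊤ := gsec r T (ex i)

theorem isLocBasis_bcrd : IsLocBasis (bcrd (r := r) T) := by
  have h := (isLocBasis_bsec (r := r) T 1).reindex ((exEquiv r).trans (enum r 1).symm)
  have h1 : (fun i => bsec r T 1 (((exEquiv r).trans (enum r 1).symm) i)) = bcrd T := by
    funext i
    change gsec r T (enum r 1 ((enum r 1).symm (ex i))) = gsec r T (ex i)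
    rw [Equiv.apply_symm_apply]
  rw [h1] at h
  exact h

theorem comb_bcrd (a : Fin (r + 1) → Γ(T, ⊤)) :
    (comb (bcrd (r := r) T) (le_refl ⊤) a : Γ((Scheme.Modules.pullback (toZ r T)).obj (O1 r Z.{u}), ⊤)) =
      ∑ i, ((CohB1.ProjSpaceOver.toBase r T).appTop (a i)) • crd r T i := by
  rw [comb_apply]
  refine Finset.sum_congr rfl fun i _ => ?_
  rw [← gsec_ex]
  simp
  rfl

/-- The sections of `O(1)` on projective space over `T`. -/
theorem exists_eq_sum (s : Γ((Scheme.Modules.pullback (toZ r T)).obj (O1 r Z.{u}), ⊤)) :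
    ∃ a : Fin (r + 1) → Γ(T, ⊤), s = ∑ i, ((CohB1.ProjSpaceOver.toBase r T).appTop (a i)) • crd r T i := by
  obtain ⟨a, ha⟩ := (isLocBasis_bcrd (r := r) T ⊤ (le_refl ⊤)).2 s
  exact ⟨a, ha.symm.trans (comb_bcrd T a)⟩

theorem eq_of_sum_eq {a b : Fin (r + 1) → Γ(T, ⊤)}
    (h : ∑ i, ((CohB1.ProjSpaceOver.toBase r T).appTop (a i)) • crd r T i =
      ∑ i, ((CohB1.ProjSpaceOver.toBase r T).appTop (b i)) • crd r T i) : a = b :=
  (isLocBasis_bcrd (r := r) T ⊤ (le_refl ⊤)).1 ((comb_bcrd T a).trans (h.trans (comb_bcrd T b).symm))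

/-- **Node C1**: the sections of `O(1)` on the projective line over `T`. -/
theorem exists_eq_lsec {T : Scheme.{u}} (s : Γ(N T, ⊤)) :
    ∃ a b : Γ(T, ⊤), s = ((pr T).appTop a) • crd 1 T 0 + ((pr T).appTop b) • crd 1 T 1 := by
  obtain ⟨a, ha⟩ := exists_eq_sum T s
  exact ⟨a 0, a 1, ha.trans (Fin.sum_univ_two _)⟩

theorem pair_eq {T : Scheme.{u}} {a b a' b' : Γ(T, ⊤)}
    (h : ((pr T).appTop a) • crd 1 T 0 + ((pr T).appTop b) • crd 1 T 1 =
      ((pr T).appTop a') • crd 1 T 0 + ((pr T).appTop b') • crd 1 T 1) : a = a' ∧ b = b' := by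
  have h1 : ![a, b] = ![a', b'] := by
    refine eq_of_sum_eq (r := 1) T ?_
    rw [Fin.sum_univ_two, Fin.sum_univ_two]
    exact h
  exact ⟨congrFun h1 0, congrFun h1 1⟩

theorem eq_zero_of_eq_zero {T : Scheme.{u}} {a b : Γ(T, ⊤)}
    (h : ((pr T).appTop a) • crd 1 T 0 + ((pr T).appTop b) • crd 1 T 1 = 0) : a = 0 ∧ b = 0 := by
  refine pair_eq (h.trans ?_)
  simp

/-- The sections `lsec v c` determine `v` and `c`. -/
theorem lsec_inj {n : ℕ} {T : Scheme.{u}} {v c v' c' : Fin (n + 1) → Γ(T, ⊤)}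
    (h : ∀ a, (lsec v c a : Γ(N T, ⊤)) = lsec v' c' a) : v = v' ∧ c = c' :=
  ⟨funext fun a => (pair_eq (h a)).1, funext fun a => (pair_eq (h a)).2⟩

end K980.SecP1
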