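import Mathlib.Topology.NoetherianSpace
import Mathlib.RingTheory.Jacobson.Ring
import Mathlib.RingTheory.Spectrum.Prime.Jacobson
import Mathlib.RingTheory.Spectrum.Prime.Noetherian
import Groth.Agent.Sga3C.DimTop
import Groth.Agent.Ega4B.DimFT

/-!
# Dimension of the target of an open map

Let `U` be an open subset of the spectrum of a finitely generated algebra over a field, `π : U → M` continuous, open and
surjective, such that the components of the preimages of closed irreducible subsets have dimension at least `c`; then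
`dim M + c ≤ dim U`.
-/

set_option autoImplicit false

open TopologicalSpace Order

namespace K980.QuotTop

theorem exists_generic {T M : Type*} [TopologicalSpace T] [TopologicalSpace M] [NoetherianSpace T] [QuasiSober T]
    [T0Space T] (π : T → M) (hc : Continuous π) (ho : IsOpenMap π) (N : Set M) (hN : IsIrreducible N)
    (hNc : IsClosed N) (x : T) (hx : π x ∈ N) :
    ∃ y, y ⤳ x ∧ π y ∈ N ∧ closure {π y} = N ∧ ∀ q, π q ∈ N → q ⤳ y → q = y := by
  obtain ⟨S, hSfin, hSc, hSi, hS⟩ :=
    NoetherianSpace.exists_finite_set_isClosed_irreducible (hNc.preimage hc)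
  -- a maximal member of `S` containing `x`
  obtain ⟨Z0, hZ0, hxZ0⟩ : ∃ Z ∈ S, x ∈ Z := by
    have : x ∈ ⋃₀ S := hS ▸ hx
    exact this
  obtain ⟨Z, hZ0Z, hZmax⟩ := hSfin.exists_le_maximal hZ0
  have hZS : Z ∈ S := hZmax.1
  obtain ⟨y, hy⟩ := QuasiSober.sober (hSi Z hZS) (hSc Z hZS)
  have hyZ : y ∈ Z := hy.mem
  have hsub : ∀ Z' ∈ S, Z' ⊆ π ⁻¹' N := fun Z' hZ' => by
    rw [hS]; exact Set.subset_sUnion_of_mem hZ'
  have hyN : π y ∈ N := hsub Z hZS hyZ
  have hmax : ∀ Z' ∈ S, y ∈ Z' → Z' = Z := by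
    intro Z' hZ' hyZ'
    have h1 : Z ⊆ Z' := by
      rw [← hy.def]
      exact closure_minimal (Set.singleton_subset_iff.mpr hyZ') (hSc Z' hZ')
    exact (hZmax.2 hZ' h1).antisymm h1
  refine ⟨y, hy.specializes (hZ0Z hxZ0), hyN, ?_, ?_⟩
  · apply Set.Subset.antisymm (closure_minimal (Set.singleton_subset_iff.mpr hyN) hNc)
    intro z hz
    rw [mem_closure_iff]
    intro W hW hzW
    -- the open subset of `T` where only `Z` passes
    set F' : Set T := ⋃₀ {Z' ∈ S | Z' ≠ Z} with hF'
    have hF'c : IsClosed F' := by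
      rw [hF', Set.sUnion_eq_biUnion]
      exact (hSfin.subset (Set.sep_subset _ _)).isClosed_biUnion fun Z' hZ' => hSc Z' hZ'.1
    have hyF' : y ∈ F'ᶜ := by
      rintro ⟨Z', ⟨hZ', hne⟩, hyZ'⟩
      exact hne (hmax Z' hZ' hyZ')
    have hO : IsOpen (π '' F'ᶜ) := ho _ hF'c.isOpen_compl
    obtain ⟨_, hwN, ⟨w, hw, rfl⟩, hwW⟩ := hN.2 (π '' F'ᶜ) W hO hW ⟨π y, hyN, ⟨y, hyF', rfl⟩⟩ ⟨z, hz, hzW⟩
    have hwZ : w ∈ Z := by
      have h1 : w ∈ ⋃₀ S := hS ▸ (show w ∈ π ⁻¹' N from hwN)
      obtain ⟨Z', hZ', hwZ'⟩ := h1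
      by_cases hne : Z' = Z
      · exact hne ▸ hwZ'
      · exact absurd ⟨Z', ⟨hZ', hne⟩, hwZ'⟩ hw
    have h2 : π y ⤳ π w := (hy.specializes hwZ).map hc
    exact ⟨π y, h2.mem_open hW hwW, rfl⟩
  · intro q hq hqy
    have h1 : q ∈ ⋃₀ S := hS ▸ (show q ∈ π ⁻¹' N from hq)
    obtain ⟨Z', hZ', hqZ'⟩ := h1
    have h2 : y ∈ Z' := hqy.mem_closed (hSc Z' hZ') hqZ'
    have h3 := hmax Z' hZ' h2
    exact (hqy.antisymm (hy.specializes (h3 ▸ hqZ'))).eq

/-- The points of an open subset of a spectrum have height at most the dimension of the open subset. -/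
theorem height_le_topologicalKrullDim {R : Type*} [CommRing R] (U : Set (PrimeSpectrum R)) (hU : IsOpen U)
    (m : PrimeSpectrum R) (hm : m ∈ U) :
    ((Order.height m : ℕ∞) : WithBot ℕ∞) ≤ topologicalKrullDim U := by
  rw [Groth.Agent.Sga3C.DimTop.topologicalKrullDim_open_eq U hU]
  refine le_trans (le_of_eq ?_) (le_iSup (fun x : U =>
    ((@coheight (PrimeSpectrum R) (specializationOrder (PrimeSpectrum R)).toPreorder (x : PrimeSpectrum R) : ℕ∞) :
      WithBot ℕ∞)) ⟨m, hm⟩)
  congr 1
  let e : @OrderIso (PrimeSpectrum R) (PrimeSpectrum R)ᵒᵈ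
      (specializationOrder (PrimeSpectrum R)).toPreorder.toLE inferInstance :=
    { toEquiv := OrderDual.toDual
      map_rel_iff' := by
        intro a b
        change b ≤ a ↔ b ⤳ a
        exact PrimeSpectrum.le_iff_specializes b a }
  have h1 := @coheight_orderIso (PrimeSpectrum R) (PrimeSpectrum R)ᵒᵈ
    (specializationOrder (PrimeSpectrum R)).toPreorder inferInstance e m
  rw [← Order.coheight_toDual]
  exact h1

theorem ringKrullDim_quotient_le_topologicalKrullDim (k : Type*) [Field k] {R : Type*} [CommRing R] [Algebra k R]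
    [Algebra.FiniteType k R] (U : Set (PrimeSpectrum R)) (hU : IsOpen U) (y : PrimeSpectrum R) (hy : y ∈ U) :
    ringKrullDim (R ⧸ y.asIdeal) ≤ topologicalKrullDim U := by
  have hJ : IsJacobsonRing R := isJacobsonRing_of_finiteType (A := k)
  have hJS : JacobsonSpace (PrimeSpectrum R) := PrimeSpectrum.isJacobsonRing_iff_jacobsonSpace.mp hJ
  obtain ⟨m, ⟨hm1, hmU⟩, hm⟩ := nonempty_inter_closedPoints (X := PrimeSpectrum R)
      (Z := closure {y} ∩ U) ⟨y, subset_closure rfl, hy⟩
      (isClosed_closure.isLocallyClosed.inter hU.isLocallyClosed)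
  have hmm : m.asIdeal.IsMaximal := (PrimeSpectrum.isClosed_singleton_iff_isMaximal m).mp hm
  have hle : y.asIdeal ≤ m.asIdeal := by
    rw [← specializes_iff_mem_closure, ← PrimeSpectrum.le_iff_specializes] at hm1
    exact hm1
  have hft : Algebra.FiniteType k (R ⧸ y.asIdeal) := inferInstance
  have hsur : Function.Surjective (Ideal.Quotient.mk y.asIdeal) := Ideal.Quotient.mk_surjective
  let M := m.asIdeal.map (Ideal.Quotient.mk y.asIdeal)
  have hcM : M.comap (Ideal.Quotient.mk y.asIdeal) = m.asIdeal := by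
    rw [Ideal.comap_map_of_surjective _ hsur, ← RingHom.ker_eq_comap_bot, Ideal.mk_ker]
    exact sup_eq_left.mpr hle
  have hM : M.IsMaximal := by
    refine (Ideal.map_eq_top_or_isMaximal_of_surjective _ hsur hmm).resolve_left fun h => ?_
    apply hmm.ne_top
    rw [← hcM]
    change Ideal.comap _ (m.asIdeal.map (Ideal.Quotient.mk y.asIdeal)) = ⊤
    rw [h, Ideal.comap_top]
  rw [← Groth.Agent.Ega4B.DimFT.height_maximal k (R ⧸ y.asIdeal) M]
  have hMp : M.IsPrime := hM.isPrime
  refine le_trans ?_ (height_le_topologicalKrullDim U hU m hmU)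
  rw [WithBot.coe_le_coe]
  have hmono : StrictMono (PrimeSpectrum.comap (Ideal.Quotient.mk y.asIdeal)) := by
    intro a b hab
    refine lt_of_le_of_ne (Ideal.comap_mono hab.le) fun h => hab.ne ?_
    exact PrimeSpectrum.comap_injective_of_surjective _ hsur h
  have h1 := Order.height_le_height_apply_of_strictMono _ hmono (⟨M, hMp⟩ : PrimeSpectrum (R ⧸ y.asIdeal))
  have h2 : PrimeSpectrum.comap (Ideal.Quotient.mk y.asIdeal) ⟨M, hMp⟩ = m := PrimeSpectrum.ext hcM
  rw [h2] at h1
  exact (PrimeSpectrum.height_eq_orderHeight (⟨M, hMp⟩ : PrimeSpectrum (R ⧸ y.asIdeal))).le.trans h1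

theorem coheight_le_ringKrullDim_quotient {R : Type*} [CommRing R] (y : PrimeSpectrum R) :
    ((Order.coheight y : ℕ∞) : WithBot ℕ∞) = ringKrullDim (R ⧸ y.asIdeal) := by
  rw [ringKrullDim_quotient, Order.coheight_eq_krullDim_Ici]
  rfl

/-- The main estimate. -/
theorem length_add_le (k : Type*) [Field k] {R : Type*} [CommRing R] [Algebra k R] [Algebra.FiniteType k R]
    {M : Type*} [TopologicalSpace M] (U : Opens (PrimeSpectrum R)) (π : U → M) (hc : Continuous π) (ho : IsOpenMap π)
    (hs : Function.Surjective π) (c : ℕ)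
    (hdim : ∀ (N : Set M), IsIrreducible N → IsClosed N → ∀ y : U, π y ∈ N → (∀ q : U, π q ∈ N → q.1 ≤ y.1 → q = y) →
      (c : WithBot ℕ∞) ≤ ringKrullDim (R ⧸ y.1.asIdeal)) (s : LTSeries (IrreducibleCloseds M)) :
    ((s.length + c : ℕ) : WithBot ℕ∞) ≤ topologicalKrullDim U := by
  have hN : IsNoetherianRing R := Algebra.FiniteType.isNoetherianRing k R
  have hNU : NoetherianSpace U := U.isOpenEmbedding'.isInducing.noetherianSpace
  have hQU : QuasiSober U := U.isOpenEmbedding'.quasiSober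
  have key : ∀ i : ℕ, ∀ hi : i ≤ s.length, ∃ y : U, closure {π y} = (s ⟨i, by omega⟩ : Set M) ∧
      ((i + c : ℕ) : ℕ∞) ≤ Order.coheight y.1 := by
    intro i
    induction i with
    | zero =>
      intro hi
      obtain ⟨z, hz⟩ := (s ⟨0, by omega⟩).isIrreducible.1
      obtain ⟨x, rfl⟩ := hs z
      obtain ⟨y, -, hyN, hy, hmin⟩ := exists_generic π hc ho _ (s ⟨0, by omega⟩).isIrreducible
        (s ⟨0, by omega⟩).isClosed x hz
      refine ⟨y, hy, ?_⟩
      have h1 := hdim _ (s ⟨0, by omega⟩).isIrreducible (s ⟨0, by omega⟩).isClosed y hyN (fun q hq hqy => by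
        refine hmin q hq ?_
        rw [U.isOpenEmbedding'.isInducing.specializes_iff.symm]
        exact (PrimeSpectrum.le_iff_specializes _ _).mp hqy)
      rw [← coheight_le_ringKrullDim_quotient] at h1
      rw [zero_add]
      exact_mod_cast h1
    | succ i ih =>
      intro hi
      obtain ⟨x, hx, hcx⟩ := ih (by omega)
      have hlt : s ⟨i, by omega⟩ < s ⟨i + 1, by omega⟩ := s.strictMono (by
        rw [Fin.lt_def]; exact Nat.lt_succ_self i)
      have hxN : π x ∈ (s ⟨i + 1, by omega⟩ : Set M) := by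
        apply (show (s ⟨i, by omega⟩ : Set M) ⊆ _ from hlt.le)
        rw [← hx]
        exact subset_closure rfl
      obtain ⟨y, hyx, hyN, hy, hmin⟩ := exists_generic π hc ho _ (s ⟨i + 1, by omega⟩).isIrreducible
        (s ⟨i + 1, by omega⟩).isClosed x hxN
      refine ⟨y, hy, ?_⟩
      have hlt2 : y.1 < x.1 := by
        refine lt_of_le_of_ne ((PrimeSpectrum.le_iff_specializes _ _).mpr
          (U.isOpenEmbedding'.isInducing.specializes_iff.mpr hyx)) fun h => ?_
        have h1 : y = x := Subtype.ext h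
        rw [h1, hx] at hy
        exact hlt.ne (SetLike.coe_injective hy)
      have h2 := Order.coheight_add_one_le hlt2
      refine le_trans ?_ h2
      have h3 : ((i + 1 + c : ℕ) : ℕ∞) = ((i + c : ℕ) : ℕ∞) + 1 := by
        push_cast
        ring
      rw [h3]
      gcongr
  obtain ⟨y, -, hy⟩ := key s.length le_rfl
  refine le_trans ?_ (ringKrullDim_quotient_le_topologicalKrullDim k (U : Set (PrimeSpectrum R)) U.isOpen y.1 y.2)
  rw [← coheight_le_ringKrullDim_quotient]
  exact_mod_cast hy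

end K980.QuotTop
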