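import Groth.Agent.Fano.K980.QuotTop
import Groth.Agent.Fano.K745.HDef

/-!
# Conics on hypersurfaces: irreducibility and dimension of the quotient by coordinate changes (node Q4 of `K745.PlanH`)
-/

set_option autoImplicit false

universe u

open CategoryTheory CategoryTheory.Limits AlgebraicGeometry

namespace K980.QuotDim

open K745.ConDef K745.HDef W4swstmapratcurves Groth.Agent.Lefpen.H701

variable {n d : ℕ} {k : Type u} [Field k] (G : LefPen.Form n k d)

/-- Node Q4 of `K745.PlanH`; `Q1`, `Q2`, `Q3` are the nodes of the same name. -/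
theorem irreducible_and_dim
    (Q1 : ∀ (Z : Set (PrimeSpectrum (RC G.1))), IsClosed Z →
      (∀ p ∈ Z, p ∈ VO G.1 → ∀ p' ∈ VO G.1, Eqv G.1 p p' → p' ∈ Z) → ∀ (p : PrimeSpectrum (RC G.1)),
      p ∈ Z → p ∈ VO G.1 → (∀ q ∈ Z, q ≤ p → q = p) → (9 : WithBot ℕ∞) ≤ ringKrullDim (RC G.1 ⧸ p.asIdeal))
    (Q2 : ∀ (p p' : PrimeSpectrum (RC G.1)), p ∈ SG G.1 → p' ∈ SG G.1 → Eqv G.1 p p' → p = p')
    (Q3 : 2 ≤ n → ∀ (W : Set (PrimeSpectrum (RC G.1))), IsOpen W →
      IsOpen {p : PrimeSpectrum (RC G.1) | p ∈ VO G.1 ∧ ∃ s ∈ SG G.1, s ∈ W ∧ Eqv G.1 s p})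
    (hdn : d + 3 ≤ n) (hG : GoodG G) {M : Type*} [TopologicalSpace M]
    (π : VG G.1 → M) (hc : Continuous π) (ho : IsOpenMap π) (hs : Function.Surjective π)
    (he : ∀ p p' : VG G.1, π p = π p' ↔ Eqv G.1 p.1 p'.1) :
    IrreducibleSpace M ∧ topologicalKrullDim M = ((3 * n - 2 * d - 2 : ℕ) : WithBot ℕ∞) := by
  have hn : 2 ≤ n := by omega
  have hirr := hG.irr
  have hI : IsIrreducible (Set.univ : Set M) := by
    have h1 := (IrreducibleSpace.isIrreducible_univ (VG G.1)).image π hc.continuousOn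
    rwa [Set.image_univ, hs.range_eq] at h1
  refine ⟨(irreducibleSpace_def M).mpr hI, le_antisymm ?_ ?_⟩
  · -- the upper bound
    refine iSup_le fun s => ?_
    let U : TopologicalSpace.Opens (PrimeSpectrum (RC G.1)) := VO G.1
    let π' : U → M := π
    have hc' : Continuous π' := hc
    have ho' : IsOpenMap π' := ho
    have h1 := K980.QuotTop.length_add_le k U π' hc' ho' hs 9 (fun N _ hNc y hy hmin => by
      have hZ : ∀ p : U, p.1 ∈ closure (Subtype.val '' (π' ⁻¹' N)) ↔ π' p ∈ N := by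
        intro p
        have h2 := (hNc.preimage hc').closure_eq
        rw [Topology.IsInducing.subtypeVal.closure_eq_preimage_closure_image] at h2
        exact (Set.ext_iff.mp h2 p)
      refine Q1 (closure (Subtype.val '' (π' ⁻¹' N))) isClosed_closure ?_ y.1 ((hZ y).mpr hy) y.2 ?_
      · intro p hp hpV p' hp'V h
        have h3 : π' ⟨p, hpV⟩ ∈ N := (hZ ⟨p, hpV⟩).mp hp
        refine (hZ ⟨p', hp'V⟩).mpr ?_
        have h4 : π' ⟨p, hpV⟩ = π' ⟨p', hp'V⟩ := (he ⟨p, hpV⟩ ⟨p', hp'V⟩).mpr h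
        rwa [← h4]
      · intro q hq hqy
        have hqU : q ∈ U := ((PrimeSpectrum.le_iff_specializes _ _).mp hqy).mem_open U.isOpen y.2
        have h5 := hmin ⟨q, hqU⟩ ((hZ ⟨q, hqU⟩).mp hq) hqy
        exact congrArg Subtype.val h5) s
    have h2 : ((s.length + 9 : ℕ) : WithBot ℕ∞) ≤ ((3 * n + 7 - 2 * d : ℕ) : WithBot ℕ∞) := by
      rw [← hG.dim]
      exact h1
    have h3 : s.length + 9 ≤ 3 * n + 7 - 2 * d := by exact_mod_cast h2
    have h4 : s.length ≤ 3 * n - 2 * d - 2 := by omega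
    exact_mod_cast h4
  · -- the lower bound
    refine hG.slice.trans ?_
    let σ : SG G.1 → M := fun p => π ⟨p.1, p.2.1⟩
    have hσ : Topology.IsOpenEmbedding σ := by
      refine Topology.IsOpenEmbedding.of_continuous_injective_isOpenMap ?_ ?_ ?_
      · refine hc.comp ?_
        exact Continuous.subtype_mk continuous_subtype_val _
      · intro p p' h
        exact Subtype.ext (Q2 p.1 p'.1 p.2 p'.2 ((he _ _).mp h))
      · intro V hV
        obtain ⟨W, hW, rfl⟩ := isOpen_induced_iff.mp hV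
        have h1 := Q3 hn W hW
        have h2 : σ '' (Subtype.val ⁻¹' W) = π '' (Subtype.val ⁻¹'
            {p : PrimeSpectrum (RC G.1) | p ∈ VO G.1 ∧ ∃ s ∈ SG G.1, s ∈ W ∧ Eqv G.1 s p}) := by
          ext z
          constructor
          · rintro ⟨s, hs, rfl⟩
            exact ⟨⟨s.1, s.2.1⟩, ⟨s.2.1, s.1, s.2, hs, (he ⟨s.1, s.2.1⟩ ⟨s.1, s.2.1⟩).mp rfl⟩, rfl⟩
          · rintro ⟨p, ⟨-, s, hs, hsW, hsp⟩, rfl⟩
            exact ⟨⟨s, hs⟩, hsW, (he ⟨s, hs.1⟩ p).mpr hsp⟩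
        rw [h2]
        exact ho _ (h1.preimage continuous_subtype_val)
    exact hσ.isInducing.topologicalKrullDim_le

end K980.QuotDim
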