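import Groth.Agent.CurvSt.K900.PtAmple
import Groth.Agent.CurvSt.K900.DegC
import Groth.Agent.CurvSt.K900.Comp
import Groth.Agent.CalgA.RegBasic
import Groth.Agent.CurvesC.DualSetup
import Groth.Agent.CurvesC.GenusOne512
import Groth.Agent.VarietyA.AmpleField
import Groth.Agent.Ega3B.ProjProper
import Groth.Prelude.Def_StMap

/-!
# Stable maps of genus zero and degree one with at most one marked point have irreducible source
-/

set_option autoImplicit false
universe u
open CategoryTheory CategoryTheory.Limits AlgebraicGeometry TopologicalSpace Opposite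

namespace K980.Irred

open Groth.Agent.CurvesC.TailGeom Groth.Agent.CurvesB Groth.Agent.CurvesC Groth.Agent
open Groth.Agent.CurvesC.DualCount Groth.Agent.CurvesC.TailNum Groth.Agent.CurvesC.CompGeom
open K900.Comp K900.TopArg

attribute [local instance] subOver

theorem genericPoint_eq_of_specializes {X : Scheme.{u}} (C : irreducibleComponents (X : Type u)) {z : X}
    (h : z ⤳ C.2.1.genericPoint) : z = C.2.1.genericPoint := by
  have h1 : C.1 ⊆ closure {z} := by
    rw [← closure_gp C]
    exact closure_minimal (Set.singleton_subset_iff.mpr (specializes_iff_mem_closure.mp h)) isClosed_closure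
  have h2 : closure {z} ⊆ C.1 := C.2.2 isIrreducible_singleton.closure h1
  have h3 : closure {z} = closure {C.2.1.genericPoint} := by
    rw [closure_gp C]
    exact h2.antisymm h1
  exact (inseparable_iff_closure_eq.mpr h3).eq

/-- A point whose local ring is a domain lies on one component only. -/
theorem eq_of_mem {X : Scheme.{u}} (x : X) [IsDomain (X.presheaf.stalk x)]
    (C D : irreducibleComponents (X : Type u)) (hC : x ∈ C.1) (hD : x ∈ D.1) : C = D := by
  have key : ∀ C : irreducibleComponents (X : Type u), x ∈ C.1 →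
      (X.fromSpecStalk x) (⊥ : PrimeSpectrum (X.presheaf.stalk x)) = C.2.1.genericPoint := by
    intro C hC
    have h1 : C.2.1.genericPoint ∈ Set.range (X.fromSpecStalk x) := by
      rw [Scheme.range_fromSpecStalk]
      change C.2.1.genericPoint ⤳ x
      rw [specializes_iff_mem_closure, closure_gp]
      exact hC
    obtain ⟨p, hp⟩ := h1
    apply genericPoint_eq_of_specializes
    rw [← hp]
    refine Specializes.map ?_ (X.fromSpecStalk x).continuous
    exact (PrimeSpectrum.le_iff_specializes _ _).mp bot_le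
  have h := (key C hC).symm.trans (key D hD)
  apply Subtype.ext
  rw [← closure_gp C, ← closure_gp D, h]

section

variable (k : Type u) [Field k] (X : Scheme.{u}) [X.Over (Spec (CommRingCat.of k))]
  [IsProper (X ↘ (Spec (CommRingCat.of k)))]

/-- The degree of a dualizing module. -/
theorem deg_w (hdim : topologicalKrullDim X = 1)
    (h0 : Module.finrank k (Coh.HH X (Coh.structureModule X) 0) = 1) {w : X.Modules} (hw : PicF.IsInvertible w)
    {t : Coh.HH X w 1 →ₗ[k] k} (ht : IsPair k t) :
    Curv2.deg k X w 1 = 2 * (Curv2.genus k X : ℤ) - 2 := by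
  have e1 := DualSetup.h0_w ht (CurvesB.UnitCoh.isCoh_structureModule X).1
  have e2 := DualSetup.h0_unit hw ht (Groth.Agent.Ega2.QCohLocal.isQCoh_of_isInvertible hw)
  have e3 : Curv2.genus k X = Module.finrank k (Coh.HH X (Coh.structureModule X) 1) := rfl
  unfold Curv2.deg
  rw [CurveCoh.euler_eq k X hdim, CurveCoh.euler_eq k X hdim, e1, ← e2, h0, e3]
  push_cast
  ring

/-- The degree on a reduced curve is the sum of the degrees on the components. -/
theorem deg_eq_sum [IsReduced X] [IsNoetherian X] (hdim : topologicalKrullDim X ≤ 1)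
    (hpure : ∀ Z ∈ irreducibleComponents (X : Type u), topologicalKrullDim Z = 1) {L : X.Modules}
    (hL : PicF.IsInvertible L) :
    Curv2.deg k X L 1 = ∑ᶠ C : irreducibleComponents (X : Type u), Groth.Agent.S1641.degC k X 1 L C := by
  rw [Groth.Agent.S1641.result k X hdim 1 L (Groth.Agent.Ega2.QCohLocal.isFinLocFreeOfRank_one_iff.mpr hL)]
  refine finsum_congr fun C => ?_
  rw [if_pos (hpure C.1 C.2), length_of_isField (isField_stalk C) (RingHom.id _) Function.surjective_id]
  change ((1 : ℕ) : ℤ) * _ = _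
  rw [Nat.cast_one, one_mul]
  rfl

theorem genus_comp_eq_zero (hdim : topologicalKrullDim X ≤ 1) (hg : Curv2.genus k X = 0)
    (J : X.IdealSheafData) : Curv2.genus k J.subscheme = 0 :=
  Nat.le_zero.mp ((K326.SemiStab.genus_sub_le k X hdim J).trans_eq hg)

variable [IsAlgClosed k] [IsReduced X] [ConnectedSpace X]

/-- The degree of the dualizing module on a component of a nodal curve of genus zero. -/
theorem degC_w [IsNoetherian X] (hdim : topologicalKrullDim X = 1) (hX : Curv2.AtWorstNodal k X)
    (hg : Curv2.genus k X = 0) {w : X.Modules} (hw : PicF.IsInvertible w)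
    {t : Coh.HH X w 1 →ₗ[k] k} (ht : IsPair k t) (C : irreducibleComponents (X : Type u)) :
    Groth.Agent.S1641.degC k X 1 w C = ((C.1 ∩ closure C.1ᶜ).ncard : ℤ) - 2 := by
  have hirr := K326.SemiStab.connected_comp C.1 C.2
  have hNs := K326.SemiStab.isNoetherian_sub k X (compIdeal C.1 C.2)
  have hP : IsProper ((compIdeal C.1 C.2).subscheme ↘ Spec (CommRingCat.of k)) :=
    inferInstanceAs (IsProper ((compIdeal C.1 C.2).subschemeι ≫ (X ↘ (Spec (CommRingCat.of k)))))
  have hd := K326.SemiStab.dim_comp X C.2 (TailMain.pure_of_connected X hdim C.1 C.2)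
  have hpure := TailMain.pure_of_connected (compIdeal C.1 C.2).subscheme hd
  have hci := TailUnion.subset_closure_interior hdim.le (compIdeal C.1 C.2) hpure
  have h1 := DualDegForm.deg_form k hdim w hw ht (compIdeal C.1 C.2).support hci
  have h2 := K326.DegPts.finrank_inter k X hdim.le hX (compIdeal C.1 C.2).support hci
  rw [← TailUnion.eq_vanishingIdeal (compIdeal C.1 C.2)] at h1 h2
  have h3 : Module.finrank k (Coh.HH X (ClSub.quotMod (compIdeal C.1 C.2)) 0) = 1 := by
    rw [← finrank_quotMod k X (compIdeal C.1 C.2) 0]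
    exact K326.DegPts.finrank_zero k (compIdeal C.1 C.2).subscheme
  have h4 : Module.finrank k (Coh.HH X (ClSub.quotMod (compIdeal C.1 C.2)) 1) = 0 := by
    rw [← finrank_quotMod k X (compIdeal C.1 C.2) 1]
    exact genus_comp_eq_zero k X hdim.le hg (compIdeal C.1 C.2)
  rw [h2, h3, h4] at h1
  rw [K900.DegC.degC_eq k C (compIdeal C.1 C.2).subschemeι (range_comp C.1 C.2) rfl]
  refine h1.trans ?_
  rw [coe_support_compIdeal]
  push_cast
  change (((C.1 ∩ closure C.1ᶜ).ncard : ℕ) : ℤ) - 2 * (1 - 0) = _
  ring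

omit [IsReduced X] in
theorem ncard_pos [IsNoetherian X] (hdim : topologicalKrullDim X ≤ 1) (C : irreducibleComponents (X : Type u))
    (hne : C.1 ≠ Set.univ) : 1 ≤ (C.1 ∩ closure C.1ᶜ).ncard := by
  obtain ⟨x⟩ := nonempty_T X C.1 C.2 hne
  have h6 : (C.1 ∩ closure C.1ᶜ).Finite := (finite_inter hdim C.2).1
  by_contra hcon
  have h0 : (C.1 ∩ closure C.1ᶜ).ncard = 0 := by omega
  rw [Set.ncard_eq_zero h6] at h0
  have h7 : (IC X C.1 C.2 ⊔ IX' X C.1 C.2).subschemeι x ∈ C.1 ∩ closure C.1ᶜ := by
    rw [← range_T X C.1 C.2]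
    exact ⟨x, rfl⟩
  rw [h0] at h7
  exact h7

open Classical in
/-- The numerical argument. -/
theorem irreducible_of_deg [IsNoetherian X] (hdim : topologicalKrullDim X = 1) (hX : Curv2.AtWorstNodal k X)
    (hg : Curv2.genus k X = 0) (x : X) [IsDomain (X.presheaf.stalk x)] {L : X.Modules}
    (hL : PicF.IsInvertible L) (hdeg : Curv2.deg k X L 1 = 1)
    (h0 : ∀ C : irreducibleComponents (X : Type u), 0 ≤ Groth.Agent.S1641.degC k X 1 L C)
    (h3 : ∀ C : irreducibleComponents (X : Type u), Groth.Agent.S1641.degC k X 1 L C = 0 →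
      3 ≤ (C.1 ∩ closure C.1ᶜ).ncard + (if x ∈ C.1 then 1 else 0)) : IrreducibleSpace X := by
  by_contra hirr
  have hfr : Module.finrank k (Coh.HH X (Coh.structureModule X) 0) = 1 := K326.DegPts.finrank_zero k X
  have hpure := TailMain.pure_of_connected X hdim
  obtain ⟨w, t, hw, ht⟩ := K900.DualBasic.exists_pair k X hdim hfr hX
  have hfin : Finite (irreducibleComponents (X : Type u)) :=
    TopologicalSpace.NoetherianSpace.finite_irreducibleComponents
  let _ : Fintype (irreducibleComponents (X : Type u)) := Fintype.ofFinite _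
  have hne : ∀ C : irreducibleComponents (X : Type u), C.1 ≠ Set.univ := by
    intro C hC
    apply hirr
    have h1 : IsIrreducible (Set.univ : Set X) := hC ▸ C.2.1
    exact (irreducibleSpace_def _).mpr h1
  have e1 := deg_eq_sum k X hdim.le hpure hw
  have e2 := deg_eq_sum k X hdim.le hpure hL
  rw [finsum_eq_sum_of_fintype, deg_w k X hdim hfr hw ht, hg] at e1
  rw [finsum_eq_sum_of_fintype, hdeg] at e2
  simp only [degC_w k X hdim hX hg hw ht] at e1
  have e3 : ∑ C : irreducibleComponents (X : Type u), (if x ∈ C.1 then (1 : ℤ) else 0) ≤ 1 := by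
    rw [Finset.sum_boole]
    have h4 : (Finset.univ.filter fun C : irreducibleComponents (X : Type u) => x ∈ C.1).card ≤ 1 := by
      rw [Finset.card_le_one]
      intro C hC D hD
      exact eq_of_mem x C D (Finset.mem_filter.mp hC).2 (Finset.mem_filter.mp hD).2
    exact_mod_cast h4
  have e4 : ∀ C : irreducibleComponents (X : Type u),
      (3 : ℤ) - 2 * Groth.Agent.S1641.degC k X 1 L C ≤ ((C.1 ∩ closure C.1ᶜ).ncard : ℤ) +
        (if x ∈ C.1 then (1 : ℤ) else 0) := by
    intro C
    have h5 := ncard_pos X hdim.le C (hne C)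
    rcases eq_or_ne (Groth.Agent.S1641.degC k X 1 L C) 0 with h | h
    · have h6 := h3 C h
      rw [h]
      split_ifs at h6 ⊢ <;> omega
    · have h6 := h0 C
      split_ifs <;> omega
  have e5 := Finset.sum_le_sum fun C (_ : C ∈ Finset.univ) => e4 C
  rw [Finset.sum_sub_distrib, Finset.sum_add_distrib, ← Finset.mul_sum, ← e2] at e5
  rw [Finset.sum_sub_distrib] at e1
  simp only [Finset.sum_const, Finset.card_univ, nsmul_eq_mul] at e1 e5
  have e6 : Fintype.card (irreducibleComponents (X : Type u)) ≤ 1 := by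
    push_cast at e1 e5
    omega
  have hx : irreducibleComponent x ∈ irreducibleComponents (X : Type u) :=
    irreducibleComponent_mem_irreducibleComponents x
  apply hne ⟨_, hx⟩
  rw [Set.eq_univ_iff_forall]
  intro y
  have hy : irreducibleComponent y ∈ irreducibleComponents (X : Type u) :=
    irreducibleComponent_mem_irreducibleComponents y
  have h8 : (⟨_, hx⟩ : irreducibleComponents (X : Type u)) = ⟨_, hy⟩ :=
    Fintype.card_le_one_iff.mp e6 _ _
  rw [h8]
  exact mem_irreducibleComponent

end

section Main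

variable {k : Type u} [Field k] {n : ℕ} (Ω : Type u) [Field Ω] [IsAlgClosed Ω] {C : Scheme.{u}}
  (q : C ⟶ Spec (CommRingCat.of Ω)) (x : Fin 1 → C) (μ : C ⟶ CohB1.ProjSpace n k)
  (a : Spec (CommRingCat.of Ω) ⟶ Spec (CommRingCat.of k)) (ha : μ ≫ CohB1.ProjSpace.toSpec n k = q ≫ a)
  (h : StMap.IsStableMap Ω C q 0 x μ)
  (hdeg : letI : C.Over (Spec (CommRingCat.of Ω)) := ⟨q⟩
    Curv2.deg Ω C ((Scheme.Modules.pullback μ).obj (Twist.twistProjSpace n k 1)) 1 = 1)

include ha h hdeg in
/-- A stable map of genus `0` with one marked point and of degree `1` has irreducible source. -/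
theorem irreducible_of_isStableMap : IrreducibleSpace C := by
  let _ : C.Over (Spec (CommRingCat.of Ω)) := ⟨q⟩
  obtain ⟨⟨hP, hconn, hdim, ⟨hX, hg⟩, -, hx⟩, h2, -⟩ := h
  have hP' : IsProper (C ↘ Spec (CommRingCat.of Ω)) := hP
  have hX' : Curv2.AtWorstNodal Ω C := hX
  have hg' : Curv2.genus Ω C = 0 := hg
  have hR : IsReduced C := GenusOne512.isReduced_of_atWorstNodal Ω C hX'
  have hN : IsNoetherian C := CurveCoh.noetherianSpace Ω C
  have hpure := TailMain.pure_of_connected C hdim
  -- the target after base change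
  have hPp : IsProper (CohB1.ProjSpace.toSpec n k) := Groth.Agent.Ega3B.ProjProper.isProper_toSpec n k
  let Y := pullback (CohB1.ProjSpace.toSpec n k) a
  let _ : Y.Over (Spec (CommRingCat.of Ω)) := ⟨pullback.snd (CohB1.ProjSpace.toSpec n k) a⟩
  have hPY : IsProper (Y ↘ Spec (CommRingCat.of Ω)) :=
    inferInstanceAs (IsProper (pullback.snd (CohB1.ProjSpace.toSpec n k) a))
  let c : C ⟶ Y := pullback.lift μ q ha
  have hcs : c ≫ pullback.snd (CohB1.ProjSpace.toSpec n k) a = q := pullback.lift_snd _ _ _
  have hcf : c ≫ pullback.fst (CohB1.ProjSpace.toSpec n k) a = μ := pullback.lift_fst _ _ _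
  have hc : IsProper c := by
    have : IsProper (c ≫ pullback.snd (CohB1.ProjSpace.toSpec n k) a) := by rw [hcs]; exact hP
    exact IsProper.of_comp c (pullback.snd (CohB1.ProjSpace.toSpec n k) a)
  let MY : Y.Modules := (Scheme.Modules.pullback (pullback.fst (CohB1.ProjSpace.toSpec n k) a)).obj
    (Twist.twistProjSpace n k 1)
  have haff : IsAffineHom (pullback.fst (CohB1.ProjSpace.toSpec n k) a) := by
    have h1 : IsAffineHom a := inferInstance
    exact MorphismProperty.pullback_fst _ _ h1
  have hMY : CohB1.IsAmple MY := Groth.Agent.Flat2H.FamOpen.isAmple_pullback_of_isAffineHom _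
    (Groth.Agent.VarietyA.AmpleField.isAmple_twistProjSpace n k)
  let L : C.Modules := (Scheme.Modules.pullback c).obj MY
  have hL : PicF.IsInvertible L := Groth.Agent.Fdesc.LocGen.isInvertible_pullback c hMY.1
  have eL : L ≅ (Scheme.Modules.pullback μ).obj (Twist.twistProjSpace n k 1) :=
    (Scheme.Modules.pullbackComp c (pullback.fst (CohB1.ProjSpace.toSpec n k) a)).app _ ≪≫
      (Scheme.Modules.pullbackCongr hcf).app _
  have hdegL : Curv2.deg Ω C L 1 = 1 := (DegIso.deg_congr Ω eL 1).trans hdeg
  have hreg : IsRegularLocalRing (C.presheaf.stalk (x 0)) :=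
    NodeSch2.isRegularLocalRing_of_exists Ω (x 0) (hx 0).2
  have hdom : IsDomain (C.presheaf.stalk (x 0)) := Groth.Agent.CalgA.RegBasic.isDomain _
  refine irreducible_of_deg Ω C hdim hX' hg' (x 0) hL hdegL (fun D => ?_) (fun D hD => ?_)
  · by_cases hctr : Ctr c D
    · exact (K900.DegC.degC_eq_zero Ω c hMY.1 D hctr).ge
    · exact (K900.DegC.degC_pos Ω hdim.le hpure c hMY D hctr).le
  · have hctr : Ctr c D := by
      by_contra hctr
      have h6 := K900.DegC.degC_pos Ω hdim.le hpure c hMY D hctr
      have h7 : Groth.Agent.S1641.degC Ω C 1 ((Scheme.Modules.pullback c).obj MY) D = 0 := hD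
      omega
    have hPs : IsProper ((IC C D.1 D.2).subscheme ↘ Spec (CommRingCat.of Ω)) :=
      inferInstanceAs (IsProper ((IC C D.1 D.2).subschemeι ≫ (C ↘ (Spec (CommRingCat.of Ω)))))
    have hfin := Groth.Agent.S0002.result Ω (IC C D.1 D.2).subscheme
      (Coh.structureModule (IC C D.1 D.2).subscheme) (UnitCoh.isCoh_unit _) 1
    have h1 : Subsingleton (Coh.HH (IC C D.1 D.2).subscheme (Coh.structureModule (IC C D.1 D.2).subscheme) 1) :=
      Module.finrank_zero_iff.mp (genus_comp_eq_zero Ω C hdim.le hg' (IC C D.1 D.2))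
    have h4 := h2 D.1 (K896.TailBridge.isSmRatComp_of_h1 Ω C D.1 D.2 (hpure D.1 D.2) h1) (by
      rintro _ ⟨y, hy, rfl⟩ _ ⟨z, hz, rfl⟩
      rw [← hcf]
      change pullback.fst (CohB1.ProjSpace.toSpec n k) a (c.base y) =
        pullback.fst (CohB1.ProjSpace.toSpec n k) a (c.base z)
      rw [hctr y hy, hctr z hz])
    rw [K900.PtAmple.spec_eq C x D.2 (finite_inter hdim.le D.2).1] at h4
    have h5 : 3 ≤ (D.1 ∩ closure D.1ᶜ).ncard + (x ⁻¹' D.1).ncard := by exact_mod_cast h4
    refine h5.trans (Nat.add_le_add_left ?_ _)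
    split_ifs with hxD
    · exact (Set.ncard_le_card _).trans_eq (Nat.card_fin 1)
    · have : x ⁻¹' D.1 = ∅ := by
        ext i
        simp only [Set.mem_preimage, Set.mem_empty_iff_false, iff_false]
        rw [Subsingleton.elim i 0]
        exact hxD
      rw [this, Set.ncard_empty]

end Main

end K980.Irred
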