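import Groth.Agent.Fano.K980.Irred
import Groth.Agent.Ribbon.K932.RibPic
import Groth.Agent.Curves.K329.Deg

/-!
# Stable maps of genus zero and degree one with one marked point have source the projective line
-/

set_option autoImplicit false
universe u
open CategoryTheory CategoryTheory.Limits AlgebraicGeometry TopologicalSpace Opposite

namespace K980.IsoP1

open Groth.Agent.CurvesC Groth.Agent

variable {k : Type u} [Field k] {n : ℕ} (Ω : Type u) [Field Ω] [IsAlgClosed Ω] {C : Scheme.{u}}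
  (q : C ⟶ Spec (CommRingCat.of Ω)) (x : Fin 1 → C) (μ : C ⟶ CohB1.ProjSpace n k)
  (a : Spec (CommRingCat.of Ω) ⟶ Spec (CommRingCat.of k)) (ha : μ ≫ CohB1.ProjSpace.toSpec n k = q ≫ a)
  (h : StMap.IsStableMap Ω C q 0 x μ)
  (hdeg : letI : C.Over (Spec (CommRingCat.of Ω)) := ⟨q⟩
    Curv2.deg Ω C ((Scheme.Modules.pullback μ).obj (Twist.twistProjSpace n k 1)) 1 = 1)

include ha h hdeg

/-- The source of a stable map of genus `0` with one marked point and of degree `1` is the projective line, and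
the pull back of `O(1)` is `O(1)`. -/
theorem exists_iso_of_isStableMap :
    ∃ (e : C ≅ CohB1.ProjSpace 1 Ω), e.hom ≫ CohB1.ProjSpace.toSpec 1 Ω = q ∧
      Nonempty ((Scheme.Modules.pullback μ).obj (Twist.twistProjSpace n k 1) ≅
        (Scheme.Modules.pullback e.hom).obj (Twist.twistProjSpace 1 Ω 1)) := by
  have hirr := K980.Irred.irreducible_of_isStableMap Ω q x μ a ha h hdeg
  let _ : C.Over (Spec (CommRingCat.of Ω)) := ⟨q⟩
  obtain ⟨⟨hP, hconn, hdim, ⟨hX, hg⟩, -, -⟩, -, -⟩ := h
  have hP' : IsProper (C ↘ Spec (CommRingCat.of Ω)) := hP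
  have hX' : Curv2.AtWorstNodal Ω C := hX
  have hg' : Curv2.genus Ω C = 0 := hg
  have hR : IsReduced C := GenusOne512.isReduced_of_atWorstNodal Ω C hX'
  have hint : IsIntegral C := isIntegral_of_irreducibleSpace_of_isReduced C
  have hfin := Groth.Agent.S0002.result Ω C (Coh.structureModule C) (Groth.Agent.CurvesB.UnitCoh.isCoh_structureModule C) 1
  obtain ⟨e, he⟩ := K896.TailBridge.exists_iso_P1 Ω C hdim (Module.finrank_zero_iff.mp hg')
  obtain ⟨m, ⟨i⟩⟩ := K932.RibPic.exists_iso Ω e ((Scheme.Modules.pullback μ).obj (Twist.twistProjSpace n k 1))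
    (Groth.Agent.Fdesc.LocGen.isInvertible_pullback μ
      (Groth.Agent.VarietyA.AmpleField.isAmple_twistProjSpace n k).1)
  have hm : m = 1 := by
    have h1 := DegIso.deg_congr Ω i 1
    have h2 := DegIso.deg_pullback_iso Ω e he (Twist.twistProjSpace 1 Ω m) 1
    rw [K329.Deg.deg_twist] at h2
    exact h2.symm.trans (h1.symm.trans hdeg)
  subst hm
  exact ⟨e, he, ⟨i⟩⟩

end K980.IsoP1
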